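import Cfsg.Agent.Lib.Blocks.RankTwo.Gram
import Cfsg.Agent.Lib.Blocks.MajorContribution

/-!
# The bound from a major subsection dominating a block with cyclic defect group

The contribution of a character is `t ∑ |y_i - y_j|² / 2 + ∑ |y_i|²` for generalized characters
`y_i` of the cyclic group, whose average over the generators is at least `e`.
-/

set_option autoImplicit false
set_option linter.unusedSectionVars false
set_option linter.style.haveILetI false

namespace CfsgLib.Blocks.RankTwo

open Cfsg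
open scoped ComplexConjugate CfsgLib.Char

/-- The form of a Brauer tree on generalized characters. -/
theorem card_mul_le_form {U : Type*} [Group U] [Fintype U] {e t : ℕ} (het : e = 1 ∨ 0 < t)
    (Y : Fin e → U → ℂ) (hY : ∀ i, IsGeneralizedCharacter U (Y i)) (v₀ : U) (S : Finset U)
    (hS : ∀ v, v ∈ S ↔ Subgroup.zpowers v = Subgroup.zpowers v₀) (h0 : ∃ i, Y i v₀ ≠ 0) :
    (S.card : ℝ) * e ≤ ∑ v ∈ S, (∑ i, ∑ j, Y i v * conj (Y j v) *
      ((if i = j then ((e * t + 1 : ℕ) : ℂ) else 0) - (t : ℂ))).re := by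
  classical
  have hSc : ∀ a b, Subgroup.zpowers a = Subgroup.zpowers b → a ∈ S → b ∈ S := fun a b h ha =>
    (hS b).mpr (h ▸ (hS a).mp ha)
  have hne : ∀ f : U → ℂ, IsGeneralizedCharacter U f → f v₀ ≠ 0 → ∀ v ∈ S, f v ≠ 0 :=
    fun f hf hv0 v hv h => hv0 (by
      have := Char.eq_of_zpowers_eq_of_rat hf ((hS v).mp hv) (q := 0)
        (by rw [Rat.cast_zero]; exact h)
      simpa using this)
  have hmean : ∀ f : U → ℂ, IsGeneralizedCharacter U f →
      (if f v₀ = 0 then 0 else (S.card : ℝ)) ≤ ∑ v ∈ S, Complex.normSq (f v) := fun f hf => by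
    split_ifs with h
    · exact Finset.sum_nonneg fun v _ => Complex.normSq_nonneg _
    · exact Char.card_le_sum_normSq_generalized hf S hSc (hne f hf h)
  -- the identity
  have hid : ∀ v, (∑ i, ∑ j, Y i v * conj (Y j v) *
      ((if i = j then ((e * t + 1 : ℕ) : ℂ) else 0) - (t : ℂ))).re =
      ∑ i, Complex.normSq (Y i v) +
        (t : ℝ) / 2 * ∑ i, ∑ j, Complex.normSq (Y i v - Y j v) := fun v => by
    have hsum : ∑ i, ∑ j, (Y i v * conj (Y j v)).re = Complex.normSq (∑ i, Y i v) := by
      rw [← Complex.ofReal_re (Complex.normSq (∑ i, Y i v)), ← Complex.mul_conj, map_sum,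
        Finset.sum_mul_sum]
      simp only [Complex.re_sum]
    have hpair : ∑ i, ∑ j, Complex.normSq (Y i v - Y j v) =
        2 * (e : ℝ) * ∑ i, Complex.normSq (Y i v) - 2 * Complex.normSq (∑ i, Y i v) := by
      rw [← hsum]
      simp only [Complex.normSq_sub, Finset.sum_sub_distrib, Finset.sum_add_distrib, Finset.sum_const,
        Finset.card_univ, Fintype.card_fin, nsmul_eq_mul, ← Finset.mul_sum]
      ring
    have hC : (∑ i, ∑ j, Y i v * conj (Y j v) *
        ((if i = j then ((e * t + 1 : ℕ) : ℂ) else 0) - (t : ℂ))) =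
        (((((e * t + 1 : ℕ) : ℝ) * ∑ i, Complex.normSq (Y i v) -
          (t : ℝ) * Complex.normSq (∑ i, Y i v)) : ℝ) : ℂ) := by
      rw [Complex.ofReal_sub, Complex.ofReal_mul, Complex.ofReal_mul, Complex.ofReal_sum,
        ← Complex.mul_conj (∑ i, Y i v), map_sum, Finset.sum_mul_sum]
      simp only [mul_sub, Finset.sum_sub_distrib, mul_ite, mul_zero, Finset.sum_ite_eq,
        Finset.mem_univ, if_true, Finset.mul_sum, Complex.ofReal_natCast, Complex.mul_conj]
      congr 1
      · exact Finset.sum_congr rfl fun i _ => mul_comm _ _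
      · exact Finset.sum_congr rfl fun i _ => Finset.sum_congr rfl fun j _ => mul_comm _ _
    rw [hpair, hC, Complex.ofReal_re]
    push_cast
    ring
  simp only [hid, Finset.sum_add_distrib, ← Finset.mul_sum]
  rw [Finset.sum_comm, Finset.sum_comm (s := S), Finset.sum_congr rfl fun i _ => Finset.sum_comm]
  -- the count
  set A : Finset (Fin e) := {i | Y i v₀ ≠ 0} with hA
  have hA1 : 1 ≤ A.card := by
    obtain ⟨i, hi⟩ := h0
    exact Finset.card_pos.mpr ⟨i, by simp [A, hi]⟩
  have hAe : A.card ≤ e := by simpa using A.card_le_univ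
  have h1 : (A.card : ℝ) * S.card ≤ ∑ i, ∑ v ∈ S, Complex.normSq (Y i v) := by
    refine le_trans (le_of_eq ?_) (Finset.sum_le_sum fun i _ => hmean (Y i) (hY i))
    rw [Finset.sum_ite, Finset.sum_const_zero, zero_add, Finset.sum_const, nsmul_eq_mul]
  have h2 : (2 * (A.card : ℝ) * ((e : ℝ) - A.card)) * S.card ≤
      ∑ i, ∑ j, ∑ v ∈ S, Complex.normSq (Y i v - Y j v) := by
    refine le_trans ?_ (Finset.sum_le_sum fun i _ => Finset.sum_le_sum fun j _ =>
      hmean (fun v => Y i v - Y j v) (Char.isGeneralized_sub (hY i) (hY j)))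
    have hlow : ∀ i j, (if (i ∈ A ∧ j ∉ A) ∨ (i ∉ A ∧ j ∈ A) then (S.card : ℝ) else 0) ≤
        if Y i v₀ - Y j v₀ = 0 then 0 else (S.card : ℝ) := fun i j => by
      split_ifs with ha hb
      · exfalso
        rw [sub_eq_zero] at hb
        simp [A, hb] at ha
      all_goals simp
    refine le_trans (le_of_eq ?_) (Finset.sum_le_sum fun i _ => Finset.sum_le_sum fun j _ => hlow i j)
    have hsplit : ∀ i, ∑ j, (if (i ∈ A ∧ j ∉ A) ∨ (i ∉ A ∧ j ∈ A) then (S.card : ℝ) else 0) =
        if i ∈ A then ((e : ℝ) - A.card) * S.card else (A.card : ℝ) * S.card := fun i => by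
      by_cases hi : i ∈ A
      · simp only [hi, not_true_eq_false, false_and, or_false, true_and, if_true]
        rw [Finset.sum_ite, Finset.sum_const_zero, add_zero, Finset.sum_const, nsmul_eq_mul,
          Finset.filter_not, Finset.filter_univ_mem, ← Finset.compl_eq_univ_sdiff, Finset.card_compl,
          Fintype.card_fin, Nat.cast_sub hAe]
      · simp only [hi, not_false_eq_true, false_and, false_or, true_and, if_false]
        rw [Finset.sum_ite, Finset.sum_const_zero, add_zero, Finset.sum_const, nsmul_eq_mul,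
          Finset.filter_univ_mem]
    simp only [hsplit]
    rw [Finset.sum_ite, Finset.sum_const, Finset.sum_const, Finset.filter_univ_mem,
      Finset.filter_not, Finset.filter_univ_mem, ← Finset.compl_eq_univ_sdiff, Finset.card_compl,
      Fintype.card_fin, nsmul_eq_mul, nsmul_eq_mul, Nat.cast_sub hAe]
    ring
  have hS0 : (0 : ℝ) ≤ S.card := Nat.cast_nonneg _
  have ha1 : (1 : ℝ) ≤ A.card := by exact_mod_cast hA1
  have hae : (A.card : ℝ) ≤ e := by exact_mod_cast hAe
  have ht : (0 : ℝ) ≤ t := Nat.cast_nonneg _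
  have hcount : (e : ℝ) ≤ A.card + t * A.card * ((e : ℝ) - A.card) := by
    rcases het with rfl | ht'
    · have h1' : A.card = 1 := by omega
      rw [h1']
      norm_num
    · have ht1 : (1 : ℝ) ≤ t := by exact_mod_cast ht'
      have h3 : (A.card : ℝ) * ((e : ℝ) - A.card) ≤ t * (A.card * ((e : ℝ) - A.card)) :=
        le_mul_of_one_le_left (mul_nonneg (by linarith) (by linarith)) ht1
      nlinarith [mul_nonneg (sub_nonneg.mpr ha1) (sub_nonneg.mpr hae)]
  have := mul_le_mul_of_nonneg_left h2 (div_nonneg ht (by norm_num : (0 : ℝ) ≤ 2))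
  nlinarith [mul_le_mul_of_nonneg_right hcount hS0]

variable {p : ℕ} {M : Ideal AlgInt} {G : Type*} [Group G] [Fintype G]

/-- A major subsection bounds the number of characters by its rank. -/
theorem card_le_pow_mul_rank {x : G} [Fintype (Subgroup.centralizer ({x} : Set G))]
    (hM : IsPModular p M) (hx : ∃ k : ℕ, orderOf x = p ^ k) {B : Set (IrrCharacter G)}
    (hB : IsPBlock M B) {b : Set (IrrCharacter (Subgroup.centralizer ({x} : Set G)))}
    (hb : IsInducedBlock M (Subgroup.centralizer ({x} : Set G)) b B)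
    (hd : blockDefect p b = blockDefect p B) :
    Nat.card B ≤ p ^ blockDefect p B * blockRank p b := by
  classical
  haveI : Fintype (Subgroup.zpowers x) := Fintype.ofFinite _
  obtain ⟨F, hF⟩ := exists_system hM hx hB hb
  set S : Finset (Subgroup.zpowers x) := {v | Subgroup.zpowers v = Subgroup.zpowers (zpow₀ x)}
  have hS : ∀ v, v ∈ S ↔ Subgroup.zpowers v = Subgroup.zpowers (zpow₀ x) := fun v => by simp [S]
  have hone : ∀ χ ∈ ({χ | χ ∈ B} : Finset (IrrCharacter G)),
      (S.card : ℝ) ≤ ∑ v ∈ S, (F χ χ v).re := fun χ hχ => by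
    refine le_trans ?_ (hF.pow_mul_card_le_diag hM hx hB hb hd S hS (Finset.mem_filter.mp hχ).2)
    exact le_mul_of_one_le_left (Nat.cast_nonneg _)
      (one_le_pow₀ (by exact_mod_cast hM.1.one_le))
  have h := Finset.sum_le_sum hone
  rw [Finset.sum_const, nsmul_eq_mul, Finset.sum_comm,
    Finset.sum_congr rfl fun v hv => hF.trace v ((hS v).mp hv), Finset.sum_const, nsmul_eq_mul,
    hd, ← Fintype.card_subtype, ← Nat.card_eq_fintype_card, mul_comm] at h
  have hS0 : (0 : ℝ) < S.card := Nat.cast_pos.mpr (Finset.card_pos.mpr ⟨zpow₀ x, by simp [S]⟩)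
  have h' := le_of_mul_le_mul_left h hS0
  exact_mod_cast h'

open Classical in
/-- The bound from a dominated block with cyclic defect group. -/
theorem card_le_pow_of_gram {u : G} [Fintype (Subgroup.centralizer ({u} : Set G))]
    [Fintype ((Subgroup.centralizer ({u} : Set G)) ⧸ uSub u)]
    (hM : IsPModular p M) {n : ℕ} (hu : orderOf u = p ^ n) {B : Set (IrrCharacter G)}
    (hB : IsPBlock M B) {b : Set (IrrCharacter (Subgroup.centralizer ({u} : Set G)))}
    (hb : IsInducedBlock M (Subgroup.centralizer ({u} : Set G)) b B)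
    (hbd : blockDefect p b = blockDefect p B) {e t : ℕ}
    {φ : Fin e → (Subgroup.centralizer ({u} : Set G)) ⧸ uSub u → ℂ}
    (hG : IsCyclicGram p (CentralQuot.pre (QuotientGroup.mk' (uSub u))
      (QuotientGroup.mk'_surjective _) b) e t φ) :
    Nat.card B ≤ p ^ blockDefect p B := by
  have := isPrime_of_isPModular hM
  have : Fact p.Prime := ⟨hM.1⟩
  set f := QuotientGroup.mk' (uSub u)
  have hf : Function.Surjective f := QuotientGroup.mk'_surjective _
  have hcardker : Nat.card f.ker = p ^ n := by rw [QuotientGroup.ker_mk', card_uSub, hu]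
  have hker : IsPGroup p f.ker := IsPGroup.of_card hcardker
  have hc : ∀ k ∈ f.ker, ∀ g : (Subgroup.centralizer ({u} : Set G)), Commute k g := fun k hk g =>
    uSub_central u k (by rwa [QuotientGroup.ker_mk'] at hk) g
  obtain ⟨hrank, hdef, het, hgram, hspan⟩ := hG
  have hdsum : blockDefect p B = blockDefect p (CentralQuot.pre f hf b) + n := by
    rw [← hbd, CentralQuot.blockDefect_pre f hf hM hker hc hb.1, hcardker,
      hM.1.factorization_pow, Finsupp.single_eq_same]
  have hcardC : Nat.card (Subgroup.centralizer ({u} : Set G)) =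
      p ^ n * Nat.card ((Subgroup.centralizer ({u} : Set G)) ⧸ uSub u) := by
    rw [← (uSub u).card_mul_index, card_uSub, hu, Subgroup.index_eq_card]
  choose mult hmult using fun χ : IrrCharacter G =>
    Char.exists_multiplicities (Char.isCharacter_restrict (Subgroup.centralizer ({u} : Set G))
      (Char.isCharacter_of_isIrr χ.2))
  -- the members of `b` in the basis
  have hz' : ∀ ξ : IrrCharacter (Subgroup.centralizer ({u} : Set G)), ∃ z : Fin e → ℤ, ξ ∈ b →
      ∀ s : (Subgroup.centralizer ({u} : Set G)), IsPRegular p s →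
        (ξ : (Subgroup.centralizer ({u} : Set G)) → ℂ) s = ∑ i, (z i : ℂ) * φ i (f s) := fun ξ => by
    by_cases hξ : ξ ∈ b
    · obtain ⟨z, hz0, hz⟩ := CentralQuot.exists_expansion f hf hM hker hc hb.1 hξ
      have hex : ∀ η, ∃ w : Fin e → ℤ, η ∈ CentralQuot.pre f hf b → ∀ s, IsPRegular p s →
          (η : _ → ℂ) s = ∑ i, (w i : ℂ) * φ i s := fun η => by
        by_cases hη : η ∈ CentralQuot.pre f hf b
        · obtain ⟨w, hw⟩ := hspan η hη
          exact ⟨w, fun _ => hw⟩
        · exact ⟨0, fun h => absurd h hη⟩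
      choose w hw using hex
      refine ⟨fun i => ∑ η, z η * w η i, fun _ s hs => ?_⟩
      have hs' : IsPRegular p (f s) := fun hd => hs (hd.trans (orderOf_map_dvd f s))
      rw [hz s hs]
      push_cast
      simp only [Finset.sum_mul]
      rw [Finset.sum_comm]
      refine Finset.sum_congr rfl fun η _ => ?_
      by_cases hη : η ∈ CentralQuot.pre f hf b
      · rw [hw η hη _ hs', Finset.mul_sum]
        exact Finset.sum_congr rfl fun i _ => (mul_assoc _ _ _).symm
      · simp [hz0 η hη]
    · exact ⟨0, fun h => absurd h hξ⟩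
  choose z hz using hz'
  haveI : Fintype (Subgroup.zpowers u) := Fintype.ofFinite _
  set u₀ : Subgroup.zpowers u := ⟨u, Subgroup.mem_zpowers u⟩
  set lam : IrrCharacter (Subgroup.centralizer ({u} : Set G)) → Subgroup.zpowers u → ℂ :=
    fun ξ v => (centralScalar u ξ v : ℂ)
  set Y : IrrCharacter G → Fin e → Subgroup.zpowers u → ℂ := fun χ i =>
    ∑ ξ : IrrCharacter (Subgroup.centralizer ({u} : Set G)) with ξ ∈ b,
      (((mult χ ξ : ℤ) * z ξ i : ℤ) : ℂ) • lam ξ
  have hY : ∀ χ i, IsGeneralizedCharacter (Subgroup.zpowers u) (Y χ i) := fun χ i =>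
    Char.isGeneralized_sum _ _ fun ξ _ => Char.isGeneralized_intCast_smul
      (Char.isGeneralized_of_isCharacter (isCharacter_units_hom _)) _
  set P : IrrCharacter G → (Subgroup.centralizer ({u} : Set G)) → ℂ := fun χ s =>
    blockPart b (fun c : (Subgroup.centralizer ({u} : Set G)) => (χ : G → ℂ) (u * (c : G))) s
  have hP : ∀ χ (s : (Subgroup.centralizer ({u} : Set G))), IsPRegular p s →
      P χ s = ∑ i, Y χ i u₀ * φ i (f s) := by
    intro χ s hs
    have hθ : (fun c : (Subgroup.centralizer ({u} : Set G)) => (χ : G → ℂ) (u * (c : G))) =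
        ∑ ξ : IrrCharacter (Subgroup.centralizer ({u} : Set G)), ((mult χ ξ : ℂ) * lam ξ u₀) •
          (ξ : (Subgroup.centralizer ({u} : Set G)) → ℂ) := by
      funext c
      have e : u * (c : G) =
          ((c * zpowersToCentralizer u u₀ : (Subgroup.centralizer ({u} : Set G))) : G) :=
        (Subgroup.mem_centralizer_singleton_iff.mp c.2).symm
      rw [e, show (χ : G → ℂ) ((c * zpowersToCentralizer u u₀ : (Subgroup.centralizer ({u} : Set G))) : G) =
        (fun h : (Subgroup.centralizer ({u} : Set G)) => (χ : G → ℂ) h) (c * zpowersToCentralizer u u₀) from rfl, hmult χ]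
      simp only [Finset.sum_apply, Pi.smul_apply, smul_eq_mul]
      exact Finset.sum_congr rfl fun ξ _ => by rw [centralScalar_mul]; ring
    show blockPart b _ s = _
    rw [blockPart_eq_filter, hθ]
    simp only [Y, Finset.sum_apply, Pi.smul_apply, smul_eq_mul, Finset.sum_mul]
    rw [Finset.sum_comm]
    refine Finset.sum_congr rfl fun ξ hξ => ?_
    rw [Char.classInner_sum_smul_irr, hz ξ (Finset.mem_filter.mp hξ).2 s hs, Finset.mul_sum]
    refine Finset.sum_congr rfl fun i _ => ?_
    push_cast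
    ring
  set E : IrrCharacter G → ℂ := fun χ =>
    ∑ s : (Subgroup.centralizer ({u} : Set G)) with IsPRegular p s, P χ s * conj (P χ s)
  set q : IrrCharacter G → Subgroup.zpowers u → ℂ := fun χ v =>
    ∑ i, ∑ j, Y χ i v * conj (Y χ j v) * ((if i = j then ((e * t + 1 : ℕ) : ℂ) else 0) - (t : ℂ))
  have hq : ∀ χ, (Nat.card (Subgroup.centralizer ({u} : Set G)) : ℂ) * q χ u₀ =
      (p : ℂ) ^ blockDefect p B * E χ := by
    intro χ
    have hE : E χ = ∑ s : (Subgroup.centralizer ({u} : Set G)) with IsPRegular p s,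
        (fun g => (∑ i, Y χ i u₀ * φ i g) * conj (∑ i, Y χ i u₀ * φ i g)) (f s) :=
      Finset.sum_congr rfl fun s hs => by rw [hP χ s (Finset.mem_filter.mp hs).2]
    rw [hE, CentralQuot.sum_regular f hf hM.1 hker hc
      (fun g => (∑ i, Y χ i u₀ * φ i g) * conj (∑ i, Y χ i u₀ * φ i g))]
    calc (Nat.card (Subgroup.centralizer ({u} : Set G)) : ℂ) * q χ u₀
        = (p : ℂ) ^ n * ∑ i, ∑ j, Y χ i u₀ * conj (Y χ j u₀) *
            ((Nat.card ((Subgroup.centralizer ({u} : Set G)) ⧸ uSub u) : ℂ) *
              ((if i = j then ((e * t + 1 : ℕ) : ℂ) else 0) - (t : ℂ))) := by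
          simp only [q, Finset.mul_sum]
          refine Finset.sum_congr rfl fun i _ => Finset.sum_congr rfl fun j _ => ?_
          rw [hcardC]
          push_cast
          ring
      _ = (p : ℂ) ^ n * ∑ i, ∑ j, Y χ i u₀ * conj (Y χ j u₀) * (((e * t + 1 : ℕ) : ℂ) *
            ∑ g : (Subgroup.centralizer ({u} : Set G)) ⧸ uSub u with IsPRegular p g,
              φ i g * conj (φ j g)) := by simp only [hgram]
      _ = _ := by
          rw [hdef, hdsum, pow_add, Nat.cast_pow]
          simp only [map_sum, map_mul, Finset.sum_mul_sum]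
          simp only [Finset.mul_sum]
          conv_rhs => rw [Finset.sum_comm]
          refine Finset.sum_congr rfl fun i _ => ?_
          conv_rhs => rw [Finset.sum_comm]
          refine Finset.sum_congr rfl fun j _ => Finset.sum_congr rfl fun g _ => ?_
          ring
  have hC0 : (Nat.card (Subgroup.centralizer ({u} : Set G)) : ℂ) ≠ 0 :=
    Nat.cast_ne_zero.mpr Nat.card_pos.ne'
  have hx : ∃ k : ℕ, orderOf u = p ^ k := ⟨n, hu⟩
  have hne : ∀ χ ∈ B, ∃ i, Y χ i u₀ ≠ 0 := fun χ hχ => by
    by_contra h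
    push Not at h
    refine diagSum_ne_zero hM hx hχ hb hbd ?_
    rw [diagSum]
    refine Finset.sum_eq_zero fun s hs => ?_
    have h1 : P χ s = 0 := by
      rw [hP χ s (Finset.mem_filter.mp hs).2]
      exact Finset.sum_eq_zero fun i _ => by rw [h i, zero_mul]
    show P χ s * _ = 0
    rw [h1, zero_mul]
  set s : Finset (IrrCharacter G) := {χ | χ ∈ B} with hs
  set T : Subgroup.zpowers u → ℂ := ∑ χ ∈ s, q χ
  have hTg : IsGeneralizedCharacter (Subgroup.zpowers u) T := by
    refine Char.isGeneralized_sum _ _ fun χ _ => ?_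
    have e' : q χ = ∑ i, ∑ j, (((if i = j then ((e * t + 1 : ℕ) : ℤ) else 0) - (t : ℤ) : ℤ) : ℂ) •
        (Y χ i * fun v => conj (Y χ j v)) := by
      funext v
      simp only [q, Finset.sum_apply, Pi.smul_apply, Pi.mul_apply, smul_eq_mul]
      refine Finset.sum_congr rfl fun i _ => Finset.sum_congr rfl fun j _ => ?_
      split_ifs <;> push_cast <;> ring
    rw [e']
    exact Char.isGeneralized_sum _ _ fun i _ => Char.isGeneralized_sum _ _ fun j _ =>
      Char.isGeneralized_intCast_smul (Char.isGeneralized_mul (hY χ i)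
        (Char.isGeneralized_conj (hY χ j))) _
  have hrk : blockRank p b = e := (CentralQuot.blockRank_pre f hf hM hker hc hb.1).trans hrank
  have hT0 : T u₀ = ((p ^ blockDefect p B * e : ℕ) : ℂ) := by
    refine mul_left_cancel₀ hC0 ?_
    show (Nat.card (Subgroup.centralizer ({u} : Set G)) : ℂ) * (∑ χ ∈ s, q χ) u₀ = _
    rw [Finset.sum_apply, Finset.mul_sum, Finset.sum_congr rfl fun χ _ => hq χ, ← Finset.mul_sum,
      show ∑ χ ∈ s, E χ = _ from sum_diag_columns hM hx hB hb, hrk]
    push_cast
    ring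
  set S : Finset (Subgroup.zpowers u) := {v | Subgroup.zpowers v = Subgroup.zpowers u₀}
  have hTv : ∀ v ∈ S, (T v).re = ((p ^ blockDefect p B * e : ℕ) : ℝ) := fun v hv => by
    rw [Char.eq_of_zpowers_eq_of_rat hTg (Finset.mem_filter.mp hv).2.symm
      (q := ((p ^ blockDefect p B * e : ℕ) : ℚ)) (by rw [hT0, Rat.cast_natCast]),
      Rat.cast_natCast, Complex.natCast_re]
  have hkey : ∀ χ ∈ s, (S.card : ℝ) * e ≤ ∑ v ∈ S, (q χ v).re := fun χ hχ =>
    card_mul_le_form het (Y χ) (hY χ) u₀ S (fun v => by simp [S])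
      (hne χ (Finset.mem_filter.mp hχ).2)
  have hsum := Finset.sum_le_sum hkey
  rw [Finset.sum_const, nsmul_eq_mul, Finset.sum_comm,
    Finset.sum_congr rfl (g := fun _ => ((p ^ blockDefect p B * e : ℕ) : ℝ)) fun v hv => by
      rw [← hTv v hv]; simp [T, Finset.sum_apply],
    Finset.sum_const, nsmul_eq_mul, Nat.cast_mul, Nat.cast_pow] at hsum
  have he : (0 : ℝ) < e := by
    rw [← hrk]
    exact Nat.cast_pos.mpr (blockRank_pos (IsPBlock.nonempty hb.1) hM.1.ne_one)
  have hS : (0 : ℝ) < S.card := Nat.cast_pos.mpr (Finset.card_pos.mpr ⟨u₀, by simp [S]⟩)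
  have hk : (s.card : ℝ) ≤ (p : ℝ) ^ blockDefect p B := by
    refine le_of_mul_le_mul_right ?_ (mul_pos hS he)
    linarith
  rw [show Nat.card B = s.card by rw [Nat.card_eq_fintype_card, Fintype.card_subtype]]
  exact_mod_cast hk

end CfsgLib.Blocks.RankTwo
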