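import Cfsg.Agent.Lib.Blocks.CardBound
import Cfsg.Agent.Lib.Blocks.CyclicDefect.Counts

/-!
# The scalar products on the regular elements of a block with cyclic defect group

With signs the `e` non-exceptional characters form a basis on the regular elements, and `|P|`
times their scalar products there are `(e t + 1) δ_ij - t`, where `t` is the number of exceptional
characters.
-/

set_option autoImplicit false
set_option linter.unusedSectionVars false
set_option linter.style.haveILetI false

namespace CfsgLib.Blocks.RankTwo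

open Cfsg CfsgLib.Blocks.FreeQuot
open scoped ComplexConjugate CfsgLib.Char

variable {p : ℕ} {M : Ideal AlgInt} {G : Type*} [Group G] [Fintype G]

/-- The basis and its scalar products. -/
def IsCyclicGram (p : ℕ) (B : Set (IrrCharacter G)) [DecidablePred fun s : G => IsPRegular p s]
    (e t : ℕ) (φ : Fin e → G → ℂ) : Prop :=
  blockRank p B = e ∧ e * t + 1 = p ^ blockDefect p B ∧ (e = 1 ∨ 0 < t) ∧
    (∀ i j, ((e * t + 1 : ℕ) : ℂ) * ∑ s : G with IsPRegular p s, φ i s * conj (φ j s) =
      (Nat.card G : ℂ) * ((if i = j then ((e * t + 1 : ℕ) : ℂ) else 0) - (t : ℂ))) ∧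
    ∀ η ∈ B, ∃ z : Fin e → ℤ, ∀ s : G, IsPRegular p s →
      (η : G → ℂ) s = ∑ i, (z i : ℂ) * φ i s

open Classical in
theorem gram_of_defect_zero (hM : IsPModular p M) {B : Set (IrrCharacter G)} (hB : IsPBlock M B)
    (h0 : blockDefect p B = 0) :
    ∃ (e t : ℕ) (φ : Fin e → G → ℂ), IsCyclicGram p B e t φ := by
  have := isPrime_of_isPModular hM
  have hk : Nat.card B ≤ 1 := by
    simpa using (card_block_le hM 0 G B hB h0).1 (Nat.zero_le 2)
  have hr0 := blockRank_pos (p := p) (IsPBlock.nonempty hB) hM.1.ne_one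
  have hrk := blockRank_le_card (p := p) B
  have hr : blockRank p B = 1 := by omega
  have hk1 : Nat.card B = 1 := by omega
  obtain ⟨χ, hχ⟩ := IsPBlock.nonempty hB
  refine ⟨1, 0, fun _ => (χ : G → ℂ), hr, by rw [h0]; norm_num, Or.inl rfl, fun i j => ?_,
    fun η hη => ⟨fun _ => 1, fun s _ => ?_⟩⟩
  · obtain rfl := Subsingleton.elim i j
    simp only [mul_zero, zero_add, Nat.cast_one, one_mul, Nat.cast_zero, sub_zero, if_true, mul_one]
    rw [Finset.sum_filter]
    have h := Char.classInner_irr_self χ.2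
    rw [classInner, inv_mul_eq_iff_eq_mul₀ (Nat.cast_ne_zero.mpr Nat.card_pos.ne'), mul_one] at h
    rw [← h]
    refine Finset.sum_congr rfl fun s _ => ?_
    split_ifs with hs
    · rfl
    · rw [singular_zero_of_blockRank_eq_card hM (IsPBlock.isBlockUnion hB) (hr.trans hk1.symm) hχ hs]
      simp
  · have hs : Subsingleton B := (Nat.card_eq_one_iff_unique.mp hk1).1
    have he : η = χ := congrArg Subtype.val (Subsingleton.elim (⟨η, hη⟩ : B) ⟨χ, hχ⟩)
    simp [he]

section Main

variable [M.IsPrime] {P : Subgroup G}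
  {c : Set (IrrCharacter (Subgroup.centralizer (P : Set G)))} {B : Set (IrrCharacter G)}
  [DecidablePred (· ∈ B)] [Fintype P]

open Classical in
theorem gram_of_maximal (hM : IsPModular p M) (hmax : IsMaximalBrauerPair p M B P c)
    (hcyc : IsCyclic P) (hP1 : P ≠ ⊥) :
    ∃ (e t : ℕ) (φ : Fin e → G → ℂ), IsCyclicGram p B e t φ := by
  have hab := CyclicDefect.comm_of_cyclic hcyc
  have hfree := CyclicDefect.free_of_cyclic hM hmax hcyc
  set e := (Subgroup.centralizer (P : Set G)).relIndex (blockT P c) with he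
  obtain ⟨hrank, -, hQ, ω, exc, δ, w, hω, S⟩ := CyclicDefect.counts hM hmax hcyc hP1 he.symm
  obtain ⟨R, hR⟩ := exists_isReps (P := P) (c := c)
  have hcardE : Nat.card (inertAut P c) = e := card_inertAut
  have he0 : 0 < e := hcardE ▸ Nat.card_pos
  have hR' := card_reps hM hmax hab hfree hR
  set t := R.card with ht
  have hcard : Nat.card P = p ^ blockDefect p B :=
    IsDefectGroup.card_eq hM hmax.1.2.1 (isDefectGroup_of_maximal hM hmax)
  have hP1' : 1 < Nat.card P := P.one_lt_card_iff_ne_bot.mpr hP1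
  have het : e * t + 1 = Nat.card P := by
    rw [mul_comm, hR']; omega
  have ht0 : 0 < t := by
    rcases Nat.eq_zero_or_pos t with h | h
    · rw [h, mul_zero, zero_add] at het; omega
    · exact h
  let O := Quotient (orbitSetoid (A := P) (inertAut P c))
  let := Fintype.ofFinite O
  have hOt : Nat.card O = t := by
    rw [hQ, ← hR', Nat.mul_div_cancel _ he0]
  let J := {i : {χ // χ ∈ B} // ∀ o, exc o ≠ i}
  let f : Fin e ≃ J := (Finite.equivFinOfCardEq (S.card.trans hcardE)).symm
  have hw2 : ∀ j : J, (w j.1 : ℂ) * (w j.1 : ℂ) = 1 := fun j => by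
    rcases S.rest_sign j.1 j.2 with h | h <;> simp [h]
  have hδ2 : (δ : ℂ) * δ = 1 := by rcases S.sign with h | h <;> simp [h]
  set φ : Fin e → G → ℂ := fun i g => (w (f i).1 : ℂ) * ((f i).1.1 : G → ℂ) g with hφ
  have hsumφ : ∀ g : G, ∑ i, φ i g =
      ∑ j : {χ // χ ∈ B} with ∀ o', exc o' ≠ j, (w j : ℂ) * (j.1 : G → ℂ) g := fun g => by
    rw [Fintype.sum_equiv f (fun i => φ i g) (fun j : J => (w j.1 : ℂ) * (j.1.1 : G → ℂ) g)
      fun i => rfl]
    exact (Finset.sum_subtype _ (fun x => by simp)
      (fun j : {χ // χ ∈ B} => (w j : ℂ) * (j.1 : G → ℂ) g)).symm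
  have hrel := fun g hg => S.relation (g := g) hM hmax hab hfree hP1 hg
  refine ⟨e, t, φ, hrank, by rw [het, hcard], Or.inr ht0, fun i j => ?_, fun η hη => ?_⟩
  · -- the combination with vanishing columns
    set a : {χ // χ ∈ B} → ℤ := fun k => if ∀ o, exc o ≠ k then
      ((if k = (f i).1 then ((e * t + 1 : ℕ) : ℤ) * w (f i).1 else 0) - (t : ℤ) * w k) else δ with ha
    have hsplit : ∀ F : {χ // χ ∈ B} → ℂ, ∑ k, (a k : ℂ) * F k =
        ((e * t + 1 : ℕ) : ℂ) * ((w (f i).1 : ℂ) * F (f i).1) -
          (t : ℂ) * (∑ k : {χ // χ ∈ B} with ∀ o, exc o ≠ k, (w k : ℂ) * F k) +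
          (δ : ℂ) * ∑ o : O, F (exc o) := fun F => by
      rw [sum_split exc]
      congr 1
      · rw [Finset.sum_congr rfl (g := fun k =>
            (if k = (f i).1 then ((e * t + 1 : ℕ) : ℂ) * ((w (f i).1 : ℂ) * F k) else 0) -
              (t : ℂ) * ((w k : ℂ) * F k)) fun k hk => ?_, Finset.sum_sub_distrib, ← Finset.mul_sum,
          Finset.sum_ite_eq', if_pos (Finset.mem_filter.mpr ⟨Finset.mem_univ _, (f i).2⟩)]
        simp only [ha]
        rw [if_pos (Finset.mem_filter.mp hk).2]
        split_ifs <;> push_cast <;> ring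
      · rw [Finset.mul_sum]
        refine Finset.sum_congr (by congr) fun o _ => ?_
        simp only [ha]
        rw [if_neg fun h => h o rfl]
    have hsing : ∀ g : G, ¬ IsPRegular p g → ∑ k, (a k : ℂ) * (k.1 : G → ℂ) g = 0 := fun g hg => by
      refine sum_singular_eq_zero hM hmax hfree hab a (fun u hu => ?_) hg
      refine mul_left_cancel₀ (left_ne_zero_of_mul_eq_one (hω.unit u hu)) ?_
      rw [mul_zero, Finset.mul_sum, Finset.sum_congr rfl fun k _ => mul_left_comm _ _ _,
        hsplit fun k => ω u * col p M P c (u : G) k.1, S.rest _ (f i).2 u hu, hw2,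
        Finset.sum_congr rfl (g := fun _ => (1 : ℂ)) fun k hk => by
          rw [S.rest k (Finset.mem_filter.mp hk).2 u hu]
          exact hw2 ⟨k, (Finset.mem_filter.mp hk).2⟩,
        Finset.sum_congr rfl (g := fun o : O => (δ : ℂ) * orbChar c o u) fun o _ => S.exc_val o u hu,
        ← Finset.mul_sum, Finset.sum_const, nsmul_one, ← Fintype.card_subtype,
        ← Nat.card_eq_fintype_card, S.card, hcardE]
      have h3 := orbChar_sum hab (inertAut_free hfree) hu
      rw [show ∑ o : O, orbChar c o u = -1 by convert h3 using 2]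
      push_cast
      linear_combination (-1 : ℂ) * hδ2
    have hregv : ∀ g : G, IsPRegular p g →
        ∑ k, (a k : ℂ) * (k.1 : G → ℂ) g = ((e * t + 1 : ℕ) : ℂ) * φ i g := fun g hg => by
      have hne : Nonempty O := by
        rw [← Finite.card_pos_iff, hOt]; exact ht0
      obtain ⟨o₀⟩ := hne
      rw [hsplit fun k => (k.1 : G → ℂ) g, (hrel g hg).2 o₀,
        Finset.sum_congr rfl (g := fun _ => ((exc o₀).1 : G → ℂ) g) fun o _ => (hrel g hg).1 o o₀,
        Finset.sum_const, Finset.card_univ, nsmul_eq_mul, ← Nat.card_eq_fintype_card, hOt, hφ]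
      ring
    have hall : ∀ g : G, ∑ k, (a k : ℂ) * (k.1 : G → ℂ) g =
        if IsPRegular p g then ((e * t + 1 : ℕ) : ℂ) * φ i g else 0 := fun g => by
      split_ifs with hg
      exacts [hregv g hg, hsing g hg]
    have horth : ∀ k : {χ // χ ∈ B}, ∑ s : G, (k.1 : G → ℂ) s * conj (((f j).1.1 : G → ℂ) s) =
        if k = (f j).1 then (Nat.card G : ℂ) else 0 := fun k => by
      have h := Char.classInner_coe k.1 (f j).1.1
      rw [classInner, inv_mul_eq_iff_eq_mul₀ (Nat.cast_ne_zero.mpr Nat.card_pos.ne')] at h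
      rw [h, mul_ite, mul_one, mul_zero]
      exact if_congr Subtype.ext_iff.symm rfl rfl
    calc ((e * t + 1 : ℕ) : ℂ) * ∑ s : G with IsPRegular p s, φ i s * conj (φ j s)
        = ∑ s : G, (∑ k, (a k : ℂ) * (k.1 : G → ℂ) s) * conj (φ j s) := by
          rw [Finset.mul_sum, Finset.sum_filter]
          refine Finset.sum_congr rfl fun s _ => ?_
          rw [hall s]
          split_ifs <;> ring
      _ = (w (f j).1 : ℂ) * ∑ k, (a k : ℂ) *
            ∑ s : G, (k.1 : G → ℂ) s * conj (((f j).1.1 : G → ℂ) s) := by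
          simp only [hφ, map_mul, map_intCast, Finset.sum_mul, Finset.mul_sum]
          rw [Finset.sum_comm]
          exact Finset.sum_congr rfl fun k _ => Finset.sum_congr rfl fun s _ => by ring
      _ = (w (f j).1 : ℂ) * ((a (f j).1 : ℂ) * (Nat.card G : ℂ)) := by
          simp only [horth, mul_ite, mul_zero, Finset.sum_ite_eq', Finset.mem_univ, if_true]
      _ = _ := by
          simp only [ha]
          rw [if_pos (f j).2]
          by_cases hij : i = j
          · subst hij
            rw [if_pos rfl, if_pos rfl]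
            push_cast
            linear_combination ((Nat.card G : ℂ) * ((e * t + 1 : ℂ) - t)) * hw2 (f i)
          · rw [if_neg fun h => hij (f.injective (Subtype.ext h)).symm, if_neg hij]
            push_cast
            linear_combination (-(Nat.card G : ℂ) * (t : ℂ)) * hw2 (f j)
  · by_cases hex : ∀ o, exc o ≠ ⟨η, hη⟩
    · set i₀ := f.symm ⟨⟨η, hη⟩, hex⟩ with hi₀
      refine ⟨fun i => if i = i₀ then w (f i₀).1 else 0, fun s _ => ?_⟩
      simp only [Int.cast_ite, Int.cast_zero, ite_mul, zero_mul, Finset.sum_ite_eq', Finset.mem_univ,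
        if_true, hφ]
      rw [← mul_assoc, hw2, one_mul, hi₀, f.apply_symm_apply]
    · push Not at hex
      obtain ⟨o, ho⟩ := hex
      refine ⟨fun _ => δ, fun s hs => ?_⟩
      rw [← Finset.mul_sum, hsumφ, (hrel s hs).2 o, ho, ← mul_assoc, hδ2, one_mul]

end Main

open Classical in
/-- The basis for a block with cyclic defect group. -/
theorem exists_gram (hM : IsPModular p M) {B : Set (IrrCharacter G)} (hB : IsPBlock M B)
    {D : Subgroup G} (hD : IsDefectGroup p M B D) (hcyc : IsCyclic D) :
    ∃ (e t : ℕ) (φ : Fin e → G → ℂ), IsCyclicGram p B e t φ := by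
  have := isPrime_of_isPModular hM
  by_cases hD1 : D = ⊥
  · have h := IsDefectGroup.card_eq hM hB hD
    rw [hD1, Subgroup.card_bot] at h
    exact gram_of_defect_zero hM hB
      (Nat.pow_right_injective hM.1.two_le (h.symm.trans (pow_zero p).symm))
  · obtain ⟨c, hc⟩ := exists_pair_of_defectGroup hM hB hD
    let := Fintype.ofFinite D
    exact gram_of_maximal hM (isMaximalBrauerPair_of_defectGroup hM hD hc) hcyc hD1

end CfsgLib.Blocks.RankTwo
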