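import Cfsg.Agent.Lib.Blocks.RankTwo.Estimate
import Cfsg.Agent.Lib.Blocks.CyclicDefect.SectionBlock
import Cfsg.Agent.S4433

/-!
# Blocks with abelian defect groups of rank two and three

A generator `a` of an abelian defect group gives a major subsection dominating a block whose defect
group is generated by the images of the other generators.
-/

set_option autoImplicit false
set_option linter.unusedSectionVars false
set_option linter.style.haveILetI false

namespace CfsgLib.Blocks.RankTwo

open Cfsg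
open scoped ComplexConjugate CfsgLib.Char

universe u

variable {p : ℕ} {M : Ideal AlgInt} {G : Type u} [Group G] [Fintype G]

/-- A major subsection at an element of an abelian defect group. -/
theorem exists_major_at (hM : IsPModular p M) {B : Set (IrrCharacter G)} (hB : IsPBlock M B)
    {D : Subgroup G} (hD : IsDefectGroup p M B D) (hab : ∀ x ∈ D, ∀ y ∈ D, x * y = y * x) {a : G}
    (ha : a ∈ D) :
    ∃ b : Set (IrrCharacter (Subgroup.centralizer ({a} : Set G))),
      IsInducedBlock M (Subgroup.centralizer ({a} : Set G)) b B ∧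
      IsDefectGroup p M b (D.subgroupOf (Subgroup.centralizer ({a} : Set G))) := by
  classical
  have := isPrime_of_isPModular hM
  obtain ⟨c, hc⟩ := exists_pair_of_defectGroup hM hB hD
  have hmax := isMaximalBrauerPair_of_defectGroup hM hD hc
  let := Fintype.ofFinite (cz a)
  have h := CyclicDefect.isDefectGroup_bk hM hmax hab ha
  have hi := FreeQuot.bk_induced hM hmax ha
  have key : ∀ (K : Subgroup G), K = Subgroup.centralizer ({a} : Set G) →
      ∀ b : Set (IrrCharacter K), IsInducedBlock M K b B → IsDefectGroup p M b (D.subgroupOf K) →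
        ∃ b : Set (IrrCharacter (Subgroup.centralizer ({a} : Set G))),
          IsInducedBlock M (Subgroup.centralizer ({a} : Set G)) b B ∧
          IsDefectGroup p M b (D.subgroupOf (Subgroup.centralizer ({a} : Set G))) := by
    rintro K rfl b hb hbD
    exact ⟨b, hb, hbD⟩
  exact key _ (cz_eq a) _ hi h

/-- The dominated block at a generator. -/
theorem exists_dominated (hM : IsPModular p M) {B : Set (IrrCharacter G)} (hB : IsPBlock M B)
    {D : Subgroup G} (hD : IsDefectGroup p M B D) (hab : ∀ x ∈ D, ∀ y ∈ D, x * y = y * x) {a : G}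
    (ha : a ∈ D) {n : ℕ} (hn : orderOf a = p ^ n) :
    ∃ (b : Set (IrrCharacter (Subgroup.centralizer ({a} : Set G))))
      (ψ : Subgroup.centralizer ({a} : Set G) →* (Subgroup.centralizer ({a} : Set G)) ⧸ uSub a),
      IsInducedBlock M (Subgroup.centralizer ({a} : Set G)) b B ∧
      blockDefect p b = blockDefect p B ∧
      blockDefect p B = blockDefect p (CentralQuot.pre (QuotientGroup.mk' (uSub a))
        (QuotientGroup.mk'_surjective _) b) + n ∧
      IsPBlock M (CentralQuot.pre (QuotientGroup.mk' (uSub a))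
        (QuotientGroup.mk'_surjective _) b) ∧
      blockRank p b = blockRank p (CentralQuot.pre (QuotientGroup.mk' (uSub a))
        (QuotientGroup.mk'_surjective _) b) ∧
      IsDefectGroup p M (CentralQuot.pre (QuotientGroup.mk' (uSub a))
        (QuotientGroup.mk'_surjective _) b)
        ((D.subgroupOf (Subgroup.centralizer ({a} : Set G))).map ψ) ∧
      ∀ h : a ∈ Subgroup.centralizer ({a} : Set G), ψ ⟨a, h⟩ = 1 := by
  classical
  have := isPrime_of_isPModular hM
  have : Fact p.Prime := ⟨hM.1⟩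
  obtain ⟨b, hb, hbD⟩ := exists_major_at hM hB hD hab ha
  have hbd := (major_data hM hB hD ha (fun d hd => hab d hd a ha) hb hbD).2
  have := Fintype.ofFinite (Subgroup.centralizer ({a} : Set G))
  have := Fintype.ofFinite ((Subgroup.centralizer ({a} : Set G)) ⧸ uSub a)
  set f := QuotientGroup.mk' (uSub a)
  have hf : Function.Surjective f := QuotientGroup.mk'_surjective _
  have hcardker : Nat.card f.ker = p ^ n := by rw [QuotientGroup.ker_mk', card_uSub, hn]
  have hker : IsPGroup p f.ker := IsPGroup.of_card hcardker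
  have hc : ∀ k ∈ f.ker, ∀ g : (Subgroup.centralizer ({a} : Set G)), Commute k g := fun k hk g =>
    uSub_central a k (by rwa [QuotientGroup.ker_mk'] at hk) g
  have hpre := CentralQuot.isPBlock_pre f hf hM hker hc hb.1
  have hdef : blockDefect p B = blockDefect p (CentralQuot.pre f hf b) + n := by
    rw [← hbd, CentralQuot.blockDefect_pre f hf hM hker hc hb.1, hcardker,
      hM.1.factorization_pow, Finsupp.single_eq_same]
  obtain ⟨D₂, hD₂⟩ := exists_isDefectGroup hM hpre
  obtain ⟨P, hP, hle⟩ := Cfsg.Agent.S4433.result p M hM (uSub a) _ hpre b hb.1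
    (fun χ hχ ψ hψ => by
      rw [show ψ = inflate f hf χ from Subtype.ext hψ]
      exact hχ) D₂ hD₂
  obtain ⟨x, rfl⟩ := IsDefectGroup.exists_conj_eq hM hb.1 hbD hP
  refine ⟨b, f.comp (MulAut.conj x).toMonoidHom, hb, hbd, hdef, hpre,
    CentralQuot.blockRank_pre f hf hM hker hc hb.1, ?_, fun h => ?_⟩
  · rw [← Subgroup.map_map]
    set P := (D.subgroupOf (Subgroup.centralizer ({a} : Set G))).map (MulAut.conj x).toMonoidHom
    have hNP : f.ker ≤ P := by
      intro k hk
      have hk' : k ∈ uSub a := by rwa [QuotientGroup.ker_mk'] at hk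
      refine ⟨k, Subgroup.zpowers_le.mpr ha hk', ?_⟩
      show x * k * x⁻¹ = k
      rw [← (hc k hk x).eq, mul_inv_cancel_right]
    have heq : D₂ = P.map f := by
      refine Subgroup.eq_of_le_of_card_ge hle ?_
      rw [IsDefectGroup.card_eq hM hpre hD₂]
      have h1 := Subgroup.index_map_eq (H := P) hf hNP
      have h2 := (P.map f).card_mul_index
      rw [h1] at h2
      have h3 : Nat.card (Subgroup.centralizer ({a} : Set G)) =
          p ^ n * Nat.card ((Subgroup.centralizer ({a} : Set G)) ⧸ uSub a) := by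
        rw [← (uSub a).card_mul_index, card_uSub, hn, Subgroup.index_eq_card]
      rw [← h2, ← P.card_mul_index, IsDefectGroup.card_eq hM hb.1 hP, hbd, hdef, pow_add] at h3
      refine le_of_eq (Nat.eq_of_mul_eq_mul_left (Nat.mul_pos (pow_pos hM.1.pos n)
        (Nat.pos_of_ne_zero (Subgroup.index_ne_zero_of_finite (H := P)))) ?_)
      linarith [h3]
    exact heq ▸ hD₂
  · show f (x * ⟨a, h⟩ * x⁻¹) = 1
    have ha' : (⟨a, h⟩ : Subgroup.centralizer ({a} : Set G)) ∈ f.ker := by
      rw [QuotientGroup.ker_mk']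
      exact Subgroup.mem_zpowers a
    rw [← (hc _ ha' x).eq, mul_inv_cancel_right]
    exact ha'

omit [Fintype G] in
theorem subgroupOf_sup_zpowers {K : Subgroup G} {a b : G} (ha : a ∈ K) (hb : b ∈ K) :
    (Subgroup.zpowers a ⊔ Subgroup.zpowers b).subgroupOf K =
      Subgroup.zpowers (⟨a, ha⟩ : K) ⊔ Subgroup.zpowers ⟨b, hb⟩ := by
  rw [Subgroup.subgroupOf_sup (Subgroup.zpowers_le.mpr ha) (Subgroup.zpowers_le.mpr hb)]
  congr 1 <;>
  · ext z
    simp [Subgroup.mem_subgroupOf, Subgroup.mem_zpowers_iff, Subtype.ext_iff]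

omit [Fintype G] in
theorem comm_sup {D : Subgroup G} (hab : ∀ x ∈ D, ∀ y ∈ D, x * y = y * x) {H : Type*} [Group H]
    {K : Subgroup G} (ψ : K →* H) :
    ∀ x ∈ (D.subgroupOf K).map ψ, ∀ y ∈ (D.subgroupOf K).map ψ, x * y = y * x := by
  rintro _ ⟨x, hx, rfl⟩ _ ⟨y, hy, rfl⟩
  rw [← map_mul, ← map_mul]
  exact congrArg ψ (Subtype.ext (hab _ hx _ hy))

/-- An abelian defect group with two generators. -/
theorem card_le_pow_two_gen (hM : IsPModular p M) {B : Set (IrrCharacter G)} (hB : IsPBlock M B)
    {D : Subgroup G} (hD : IsDefectGroup p M B D) (hab : ∀ x ∈ D, ∀ y ∈ D, x * y = y * x)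
    {a b : G} (hgen : D = Subgroup.zpowers a ⊔ Subgroup.zpowers b) :
    Nat.card B ≤ p ^ blockDefect p B := by
  classical
  have : Fact p.Prime := ⟨hM.1⟩
  have ha : a ∈ D := hgen ▸ Subgroup.mem_sup_left (Subgroup.mem_zpowers a)
  have hb : b ∈ D := hgen ▸ Subgroup.mem_sup_right (Subgroup.mem_zpowers b)
  obtain ⟨n, hn⟩ := IsPGroup.iff_orderOf.mp (IsDefectGroup.isPGroup hM hD) ⟨a, ha⟩
  rw [Subgroup.orderOf_mk] at hn
  obtain ⟨bb, ψ, hind, hbd, -, hpre, -, hdg, hψ⟩ := exists_dominated hM hB hD hab ha hn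
  have := Fintype.ofFinite (Subgroup.centralizer ({a} : Set G))
  have := Fintype.ofFinite ((Subgroup.centralizer ({a} : Set G)) ⧸ uSub a)
  have hcyc : IsCyclic ((D.subgroupOf (Subgroup.centralizer ({a} : Set G))).map ψ) := by
    have haK : a ∈ Subgroup.centralizer ({a} : Set G) :=
      Subgroup.mem_centralizer_singleton_iff.mpr rfl
    have hbK : b ∈ Subgroup.centralizer ({a} : Set G) :=
      Subgroup.mem_centralizer_singleton_iff.mpr (hab b hb a ha)
    rw [hgen, subgroupOf_sup_zpowers haK hbK, Subgroup.map_sup, MonoidHom.map_zpowers,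
      MonoidHom.map_zpowers, hψ haK, Subgroup.zpowers_one_eq_bot, bot_sup_eq]
    infer_instance
  obtain ⟨e, t, φ, hG⟩ := exists_gram hM hpre hdg hcyc
  exact card_le_pow_of_gram hM hn hB hind hbd hG

/-- An abelian defect group with three generators, the last one of largest order. -/
theorem card_cube_le_three_gen (hM : IsPModular p M) {B : Set (IrrCharacter G)} (hB : IsPBlock M B)
    {D : Subgroup G} (hD : IsDefectGroup p M B D) (hab : ∀ x ∈ D, ∀ y ∈ D, x * y = y * x)
    {a b c : G} (hgen : D = Subgroup.zpowers a ⊔ (Subgroup.zpowers b ⊔ Subgroup.zpowers c))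
    (hba : orderOf b ≤ orderOf a) (hca : orderOf c ≤ orderOf a) :
    Nat.card B ^ 3 ≤ p ^ (5 * blockDefect p B) := by
  classical
  have : Fact p.Prime := ⟨hM.1⟩
  have ha : a ∈ D := hgen ▸ Subgroup.mem_sup_left (Subgroup.mem_zpowers a)
  have hb : b ∈ D := hgen ▸ Subgroup.mem_sup_right (Subgroup.mem_sup_left (Subgroup.mem_zpowers b))
  have hc : c ∈ D := hgen ▸ Subgroup.mem_sup_right (Subgroup.mem_sup_right (Subgroup.mem_zpowers c))
  obtain ⟨n, hn⟩ := IsPGroup.iff_orderOf.mp (IsDefectGroup.isPGroup hM hD) ⟨a, ha⟩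
  rw [Subgroup.orderOf_mk] at hn
  obtain ⟨bb, ψ, hind, hbd, hdef, hpre, hrk, hdg, hψ⟩ := exists_dominated hM hB hD hab ha hn
  have := Fintype.ofFinite (Subgroup.centralizer ({a} : Set G))
  have := Fintype.ofFinite ((Subgroup.centralizer ({a} : Set G)) ⧸ uSub a)
  -- the dominated block has two generators
  have haK : a ∈ Subgroup.centralizer ({a} : Set G) :=
    Subgroup.mem_centralizer_singleton_iff.mpr rfl
  have hbK : b ∈ Subgroup.centralizer ({a} : Set G) :=
    Subgroup.mem_centralizer_singleton_iff.mpr (hab b hb a ha)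
  have hcK : c ∈ Subgroup.centralizer ({a} : Set G) :=
    Subgroup.mem_centralizer_singleton_iff.mpr (hab c hc a ha)
  have hgen2 : (D.subgroupOf (Subgroup.centralizer ({a} : Set G))).map ψ =
      Subgroup.zpowers (ψ ⟨b, hbK⟩) ⊔ Subgroup.zpowers (ψ ⟨c, hcK⟩) := by
    have h1 : (Subgroup.zpowers a).subgroupOf (Subgroup.centralizer ({a} : Set G)) =
        Subgroup.zpowers ⟨a, haK⟩ := by
      simpa using subgroupOf_sup_zpowers haK haK
    rw [hgen, Subgroup.subgroupOf_sup (Subgroup.zpowers_le.mpr haK)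
      (sup_le (Subgroup.zpowers_le.mpr hbK) (Subgroup.zpowers_le.mpr hcK)), h1,
      subgroupOf_sup_zpowers hbK hcK, Subgroup.map_sup, Subgroup.map_sup, MonoidHom.map_zpowers,
      MonoidHom.map_zpowers, MonoidHom.map_zpowers, hψ haK, Subgroup.zpowers_one_eq_bot, bot_sup_eq]
  have h2 := card_le_pow_two_gen hM hpre hdg (comm_sup hab ψ) hgen2
  have hl : blockRank p bb ≤ _ := hrk.le.trans ((blockRank_le_card _).trans h2)
  have hk := (card_le_pow_mul_rank hM ⟨n, hn⟩ hB hind hbd).trans (Nat.mul_le_mul_left _ hl)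
  -- the order of the defect group
  have h3 : p ^ blockDefect p B ≤ p ^ (3 * n) := by
    rw [← IsDefectGroup.card_eq hM hB hD]
    let comm : ∀ S T : Subgroup G, S ≤ D → T ≤ D → Nat.card ↥(S ⊔ T) ≤ Nat.card S * Nat.card T :=
      fun S T hS hT => by
        have hST : S ≤ Subgroup.normalizer (T : Set G) := fun s hs =>
          Subgroup.centralizer_le_normalizer _ fun t ht => hab t (hT ht) s (hS hs)
        have hsurj : Function.Surjective
            (fun x : S × T => (⟨x.1 * x.2, Subgroup.mul_mem_sup x.1.2 x.2.2⟩ : ↥(S ⊔ T))) := by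
          intro y
          have hy := y.2
          rw [← SetLike.mem_coe, Subgroup.coe_mul_of_left_le_normalizer_right S T hST] at hy
          obtain ⟨s, hs, t, ht, hst⟩ := Set.mem_mul.mp hy
          exact ⟨(⟨s, hs⟩, ⟨t, ht⟩), Subtype.ext hst⟩
        have h := Nat.card_le_card_of_surjective _ hsurj
        rwa [Nat.card_prod] at h
    calc Nat.card D ≤ Nat.card (Subgroup.zpowers a) *
          Nat.card ↥(Subgroup.zpowers b ⊔ Subgroup.zpowers c) := by
          conv_lhs => rw [hgen]
          exact comm _ _ (Subgroup.zpowers_le.mpr ha)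
            (sup_le (Subgroup.zpowers_le.mpr hb) (Subgroup.zpowers_le.mpr hc))
      _ ≤ Nat.card (Subgroup.zpowers a) *
          (Nat.card (Subgroup.zpowers b) * Nat.card (Subgroup.zpowers c)) :=
          Nat.mul_le_mul_left _ (comm _ _ (Subgroup.zpowers_le.mpr hb) (Subgroup.zpowers_le.mpr hc))
      _ ≤ p ^ n * (p ^ n * p ^ n) := by
          rw [Nat.card_zpowers, Nat.card_zpowers, Nat.card_zpowers]
          exact Nat.mul_le_mul hn.le (Nat.mul_le_mul (hba.trans hn.le) (hca.trans hn.le))
      _ = p ^ (3 * n) := by ring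
  rw [← pow_add] at hk
  refine (Nat.pow_le_pow_left hk 3).trans ?_
  rw [← pow_mul]
  refine Nat.pow_le_pow_right hM.1.pos ?_
  have := (Nat.pow_le_pow_iff_right hM.1.one_lt).mp h3
  omega

end CfsgLib.Blocks.RankTwo
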