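import Cfsg.Agent.Lib.Blocks.RankTwo.Main

/-!
# Subsections dominating a block with cyclic defect group

The number of characters of a block whose block part at a subsection is non-zero is at most the
order of the defect groups of the subsection, if the dominated block has cyclic defect groups.
-/

set_option autoImplicit false
set_option linter.unusedSectionVars false
set_option linter.style.haveILetI false

namespace CfsgLib.Blocks.RankTwo

open Cfsg
open scoped ComplexConjugate CfsgLib.Char

variable {p : ℕ} {M : Ideal AlgInt} {G : Type*} [Group G] [Fintype G]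

open Classical in
/-- The bound on the characters not vanishing on a subsection dominating a block with cyclic
defect group. -/
theorem card_nonzero_le_pow_of_gram {u : G} [Fintype (Subgroup.centralizer ({u} : Set G))]
    [Fintype ((Subgroup.centralizer ({u} : Set G)) ⧸ uSub u)]
    (hM : IsPModular p M) {n : ℕ} (hu : orderOf u = p ^ n) {B : Set (IrrCharacter G)}
    (hB : IsPBlock M B) {b : Set (IrrCharacter (Subgroup.centralizer ({u} : Set G)))}
    (hb : IsInducedBlock M (Subgroup.centralizer ({u} : Set G)) b B)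
    {e t : ℕ}
    {φ : Fin e → (Subgroup.centralizer ({u} : Set G)) ⧸ uSub u → ℂ}
    (hG : IsCyclicGram p (CentralQuot.pre (QuotientGroup.mk' (uSub u))
      (QuotientGroup.mk'_surjective _) b) e t φ) :
    Nat.card {χ : IrrCharacter G // χ ∈ B ∧ blockPart b
      (fun c : Subgroup.centralizer ({u} : Set G) => (χ : G → ℂ) (u * (c : G))) 1 ≠ 0} ≤
      p ^ blockDefect p b := by
  have := isPrime_of_isPModular hM
  have : Fact p.Prime := ⟨hM.1⟩
  set f := QuotientGroup.mk' (uSub u)
  have hf : Function.Surjective f := QuotientGroup.mk'_surjective _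
  have hcardker : Nat.card f.ker = p ^ n := by rw [QuotientGroup.ker_mk', card_uSub, hu]
  have hker : IsPGroup p f.ker := IsPGroup.of_card hcardker
  have hc : ∀ k ∈ f.ker, ∀ g : (Subgroup.centralizer ({u} : Set G)), Commute k g := fun k hk g =>
    uSub_central u k (by rwa [QuotientGroup.ker_mk'] at hk) g
  obtain ⟨hrank, hdef, het, hgram, hspan⟩ := hG
  have hdsum : blockDefect p b = blockDefect p (CentralQuot.pre f hf b) + n := by
    rw [CentralQuot.blockDefect_pre f hf hM hker hc hb.1, hcardker,
      hM.1.factorization_pow, Finsupp.single_eq_same]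
  have hcardC : Nat.card (Subgroup.centralizer ({u} : Set G)) =
      p ^ n * Nat.card ((Subgroup.centralizer ({u} : Set G)) ⧸ uSub u) := by
    rw [← (uSub u).card_mul_index, card_uSub, hu, Subgroup.index_eq_card]
  choose mult hmult using fun χ : IrrCharacter G =>
    Char.exists_multiplicities (Char.isCharacter_restrict (Subgroup.centralizer ({u} : Set G))
      (Char.isCharacter_of_isIrr χ.2))
  -- the members of `b` in the basis
  have hz' : ∀ ξ : IrrCharacter (Subgroup.centralizer ({u} : Set G)), ∃ z : Fin e → ℤ, ξ ∈ b →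
      ∀ s : (Subgroup.centralizer ({u} : Set G)), IsPRegular p s →
        (ξ : (Subgroup.centralizer ({u} : Set G)) → ℂ) s = ∑ i, (z i : ℂ) * φ i (f s) := fun ξ => by
    by_cases hξ : ξ ∈ b
    · obtain ⟨z, hz0, hz⟩ := CentralQuot.exists_expansion f hf hM hker hc hb.1 hξ
      have hex : ∀ η, ∃ w : Fin e → ℤ, η ∈ CentralQuot.pre f hf b → ∀ s, IsPRegular p s →
          (η : _ → ℂ) s = ∑ i, (w i : ℂ) * φ i s := fun η => by
        by_cases hη : η ∈ CentralQuot.pre f hf b
        · obtain ⟨w, hw⟩ := hspan η hη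
          exact ⟨w, fun _ => hw⟩
        · exact ⟨0, fun h => absurd h hη⟩
      choose w hw using hex
      refine ⟨fun i => ∑ η, z η * w η i, fun _ s hs => ?_⟩
      have hs' : IsPRegular p (f s) := fun hd => hs (hd.trans (orderOf_map_dvd f s))
      rw [hz s hs]
      push_cast
      simp only [Finset.sum_mul]
      rw [Finset.sum_comm]
      refine Finset.sum_congr rfl fun η _ => ?_
      by_cases hη : η ∈ CentralQuot.pre f hf b
      · rw [hw η hη _ hs', Finset.mul_sum]
        exact Finset.sum_congr rfl fun i _ => (mul_assoc _ _ _).symm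
      · simp [hz0 η hη]
    · exact ⟨0, fun h => absurd h hξ⟩
  choose z hz using hz'
  haveI : Fintype (Subgroup.zpowers u) := Fintype.ofFinite _
  set u₀ : Subgroup.zpowers u := ⟨u, Subgroup.mem_zpowers u⟩
  set lam : IrrCharacter (Subgroup.centralizer ({u} : Set G)) → Subgroup.zpowers u → ℂ :=
    fun ξ v => (centralScalar u ξ v : ℂ)
  set Y : IrrCharacter G → Fin e → Subgroup.zpowers u → ℂ := fun χ i =>
    ∑ ξ : IrrCharacter (Subgroup.centralizer ({u} : Set G)) with ξ ∈ b,
      (((mult χ ξ : ℤ) * z ξ i : ℤ) : ℂ) • lam ξ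
  have hY : ∀ χ i, IsGeneralizedCharacter (Subgroup.zpowers u) (Y χ i) := fun χ i =>
    Char.isGeneralized_sum _ _ fun ξ _ => Char.isGeneralized_intCast_smul
      (Char.isGeneralized_of_isCharacter (isCharacter_units_hom _)) _
  set P : IrrCharacter G → (Subgroup.centralizer ({u} : Set G)) → ℂ := fun χ s =>
    blockPart b (fun c : (Subgroup.centralizer ({u} : Set G)) => (χ : G → ℂ) (u * (c : G))) s
  have hP : ∀ χ (s : (Subgroup.centralizer ({u} : Set G))), IsPRegular p s →
      P χ s = ∑ i, Y χ i u₀ * φ i (f s) := by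
    intro χ s hs
    have hθ : (fun c : (Subgroup.centralizer ({u} : Set G)) => (χ : G → ℂ) (u * (c : G))) =
        ∑ ξ : IrrCharacter (Subgroup.centralizer ({u} : Set G)), ((mult χ ξ : ℂ) * lam ξ u₀) •
          (ξ : (Subgroup.centralizer ({u} : Set G)) → ℂ) := by
      funext c
      have e : u * (c : G) =
          ((c * zpowersToCentralizer u u₀ : (Subgroup.centralizer ({u} : Set G))) : G) :=
        (Subgroup.mem_centralizer_singleton_iff.mp c.2).symm
      rw [e, show (χ : G → ℂ) ((c * zpowersToCentralizer u u₀ : (Subgroup.centralizer ({u} : Set G))) : G) =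
        (fun h : (Subgroup.centralizer ({u} : Set G)) => (χ : G → ℂ) h) (c * zpowersToCentralizer u u₀) from rfl, hmult χ]
      simp only [Finset.sum_apply, Pi.smul_apply, smul_eq_mul]
      exact Finset.sum_congr rfl fun ξ _ => by rw [centralScalar_mul]; ring
    show blockPart b _ s = _
    rw [blockPart_eq_filter, hθ]
    simp only [Y, Finset.sum_apply, Pi.smul_apply, smul_eq_mul, Finset.sum_mul]
    rw [Finset.sum_comm]
    refine Finset.sum_congr rfl fun ξ hξ => ?_
    rw [Char.classInner_sum_smul_irr, hz ξ (Finset.mem_filter.mp hξ).2 s hs, Finset.mul_sum]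
    refine Finset.sum_congr rfl fun i _ => ?_
    push_cast
    ring
  set E : IrrCharacter G → ℂ := fun χ =>
    ∑ s : (Subgroup.centralizer ({u} : Set G)) with IsPRegular p s, P χ s * conj (P χ s)
  set q : IrrCharacter G → Subgroup.zpowers u → ℂ := fun χ v =>
    ∑ i, ∑ j, Y χ i v * conj (Y χ j v) * ((if i = j then ((e * t + 1 : ℕ) : ℂ) else 0) - (t : ℂ))
  have hq : ∀ χ, (Nat.card (Subgroup.centralizer ({u} : Set G)) : ℂ) * q χ u₀ =
      (p : ℂ) ^ blockDefect p b * E χ := by
    intro χ
    have hE : E χ = ∑ s : (Subgroup.centralizer ({u} : Set G)) with IsPRegular p s,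
        (fun g => (∑ i, Y χ i u₀ * φ i g) * conj (∑ i, Y χ i u₀ * φ i g)) (f s) :=
      Finset.sum_congr rfl fun s hs => by rw [hP χ s (Finset.mem_filter.mp hs).2]
    rw [hE, CentralQuot.sum_regular f hf hM.1 hker hc
      (fun g => (∑ i, Y χ i u₀ * φ i g) * conj (∑ i, Y χ i u₀ * φ i g))]
    calc (Nat.card (Subgroup.centralizer ({u} : Set G)) : ℂ) * q χ u₀
        = (p : ℂ) ^ n * ∑ i, ∑ j, Y χ i u₀ * conj (Y χ j u₀) *
            ((Nat.card ((Subgroup.centralizer ({u} : Set G)) ⧸ uSub u) : ℂ) *
              ((if i = j then ((e * t + 1 : ℕ) : ℂ) else 0) - (t : ℂ))) := by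
          simp only [q, Finset.mul_sum]
          refine Finset.sum_congr rfl fun i _ => Finset.sum_congr rfl fun j _ => ?_
          rw [hcardC]
          push_cast
          ring
      _ = (p : ℂ) ^ n * ∑ i, ∑ j, Y χ i u₀ * conj (Y χ j u₀) * (((e * t + 1 : ℕ) : ℂ) *
            ∑ g : (Subgroup.centralizer ({u} : Set G)) ⧸ uSub u with IsPRegular p g,
              φ i g * conj (φ j g)) := by simp only [hgram]
      _ = _ := by
          rw [hdef, hdsum, pow_add, Nat.cast_pow]
          simp only [map_sum, map_mul, Finset.sum_mul_sum]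
          simp only [Finset.mul_sum]
          conv_rhs => rw [Finset.sum_comm]
          refine Finset.sum_congr rfl fun i _ => ?_
          conv_rhs => rw [Finset.sum_comm]
          refine Finset.sum_congr rfl fun j _ => Finset.sum_congr rfl fun g _ => ?_
          ring
  have hC0 : (Nat.card (Subgroup.centralizer ({u} : Set G)) : ℂ) ≠ 0 :=
    Nat.cast_ne_zero.mpr Nat.card_pos.ne'
  have hx : ∃ k : ℕ, orderOf u = p ^ k := ⟨n, hu⟩
  have hne : ∀ χ : IrrCharacter G, P χ 1 ≠ 0 → ∃ i, Y χ i u₀ ≠ 0 := fun χ hχ => by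
    by_contra h
    push Not at h
    refine hχ ?_
    rw [hP χ 1 (by rw [IsPRegular, orderOf_one]; exact hM.1.not_dvd_one)]
    exact Finset.sum_eq_zero fun i _ => by rw [h i, zero_mul]
  set s : Finset (IrrCharacter G) := {χ | χ ∈ B} with hs
  set T : Subgroup.zpowers u → ℂ := ∑ χ ∈ s, q χ
  have hTg : IsGeneralizedCharacter (Subgroup.zpowers u) T := by
    refine Char.isGeneralized_sum _ _ fun χ _ => ?_
    have e' : q χ = ∑ i, ∑ j, (((if i = j then ((e * t + 1 : ℕ) : ℤ) else 0) - (t : ℤ) : ℤ) : ℂ) •
        (Y χ i * fun v => conj (Y χ j v)) := by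
      funext v
      simp only [q, Finset.sum_apply, Pi.smul_apply, Pi.mul_apply, smul_eq_mul]
      refine Finset.sum_congr rfl fun i _ => Finset.sum_congr rfl fun j _ => ?_
      split_ifs <;> push_cast <;> ring
    rw [e']
    exact Char.isGeneralized_sum _ _ fun i _ => Char.isGeneralized_sum _ _ fun j _ =>
      Char.isGeneralized_intCast_smul (Char.isGeneralized_mul (hY χ i)
        (Char.isGeneralized_conj (hY χ j))) _
  have hrk : blockRank p b = e := (CentralQuot.blockRank_pre f hf hM hker hc hb.1).trans hrank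
  have hT0 : T u₀ = ((p ^ blockDefect p b * e : ℕ) : ℂ) := by
    refine mul_left_cancel₀ hC0 ?_
    show (Nat.card (Subgroup.centralizer ({u} : Set G)) : ℂ) * (∑ χ ∈ s, q χ) u₀ = _
    rw [Finset.sum_apply, Finset.mul_sum, Finset.sum_congr rfl fun χ _ => hq χ, ← Finset.mul_sum,
      show ∑ χ ∈ s, E χ = _ from sum_diag_columns hM hx hB hb, hrk]
    push_cast
    ring
  set S : Finset (Subgroup.zpowers u) := {v | Subgroup.zpowers v = Subgroup.zpowers u₀}
  have hTv : ∀ v ∈ S, (T v).re = ((p ^ blockDefect p b * e : ℕ) : ℝ) := fun v hv => by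
    rw [Char.eq_of_zpowers_eq_of_rat hTg (Finset.mem_filter.mp hv).2.symm
      (q := ((p ^ blockDefect p b * e : ℕ) : ℚ)) (by rw [hT0, Rat.cast_natCast]),
      Rat.cast_natCast, Complex.natCast_re]
  have hkey : ∀ χ ∈ s, (if P χ 1 ≠ 0 then (S.card : ℝ) * e else 0) ≤ ∑ v ∈ S, (q χ v).re := by
    intro χ _
    by_cases hz0 : ∃ i, Y χ i u₀ ≠ 0
    · refine le_trans ?_ (card_mul_le_form het (Y χ) (hY χ) u₀ S (fun v => by simp [S]) hz0)
      split_ifs
      · exact le_rfl
      · positivity
    · rw [if_neg fun h => hz0 (hne χ h)]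
      push Not at hz0
      refine Finset.sum_nonneg fun v hv => le_of_eq ?_
      have hzero : ∀ i, Y χ i v = 0 := fun i => by
        rw [Char.eq_of_zpowers_eq_of_rat (hY χ i) (Finset.mem_filter.mp hv).2.symm (q := 0)
          (by rw [hz0 i, Rat.cast_zero]), Rat.cast_zero]
      simp [q, hzero]
  have hsum := Finset.sum_le_sum hkey
  rw [Finset.sum_ite, Finset.sum_const_zero, add_zero, Finset.filter_filter] at hsum
  rw [Finset.sum_const, nsmul_eq_mul, Finset.sum_comm,
    Finset.sum_congr rfl (g := fun _ => ((p ^ blockDefect p b * e : ℕ) : ℝ)) fun v hv => by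
      rw [← hTv v hv]; simp [T, Finset.sum_apply],
    Finset.sum_const, nsmul_eq_mul, Nat.cast_mul, Nat.cast_pow] at hsum
  have he : (0 : ℝ) < e := by
    rw [← hrk]
    exact Nat.cast_pos.mpr (blockRank_pos (IsPBlock.nonempty hb.1) hM.1.ne_one)
  have hS : (0 : ℝ) < S.card := Nat.cast_pos.mpr (Finset.card_pos.mpr ⟨u₀, by simp [S]⟩)
  set s' : Finset (IrrCharacter G) := {χ | χ ∈ B ∧ P χ 1 ≠ 0}
  have hk : (s'.card : ℝ) ≤ (p : ℝ) ^ blockDefect p b := by
    refine le_of_mul_le_mul_right ?_ (mul_pos hS he)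
    linarith
  rw [show Nat.card {χ : IrrCharacter G // χ ∈ B ∧ P χ 1 ≠ 0} = s'.card by
    rw [Nat.card_eq_fintype_card, Fintype.card_subtype]]
  exact_mod_cast hk

/-- A subsection at an element whose centralizer has a small `p`-part. -/
theorem card_nonzero_le_sq {u : G} [Fintype (Subgroup.centralizer ({u} : Set G))]
    (hM : IsPModular p M) {n : ℕ} (hu : orderOf u = p ^ n) {B : Set (IrrCharacter G)}
    (hB : IsPBlock M B) {b : Set (IrrCharacter (Subgroup.centralizer ({u} : Set G)))}
    (hb : IsInducedBlock M (Subgroup.centralizer ({u} : Set G)) b B)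
    (hC : (Nat.card (Subgroup.centralizer ({u} : Set G))).factorization p ≤ 2)
    (hn : n ≠ 0 ∨ (Nat.card (Subgroup.centralizer ({u} : Set G))).factorization p ≤ 1) :
    Nat.card {χ : IrrCharacter G // χ ∈ B ∧ blockPart b
      (fun c : Subgroup.centralizer ({u} : Set G) => (χ : G → ℂ) (u * (c : G))) 1 ≠ 0} ≤ p ^ 2 := by
  classical
  have := isPrime_of_isPModular hM
  have : Fact p.Prime := ⟨hM.1⟩
  haveI := Fintype.ofFinite ((Subgroup.centralizer ({u} : Set G)) ⧸ uSub u)
  set f := QuotientGroup.mk' (uSub u)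
  have hf : Function.Surjective f := QuotientGroup.mk'_surjective _
  have hcardker : Nat.card f.ker = p ^ n := by rw [QuotientGroup.ker_mk', card_uSub, hu]
  have hker : IsPGroup p f.ker := IsPGroup.of_card hcardker
  have hc : ∀ k ∈ f.ker, ∀ g : (Subgroup.centralizer ({u} : Set G)), Commute k g := fun k hk g =>
    uSub_central u k (by rwa [QuotientGroup.ker_mk'] at hk) g
  have hpre := CentralQuot.isPBlock_pre f hf hM hker hc hb.1
  have hfac : (Nat.card ((Subgroup.centralizer ({u} : Set G)) ⧸ uSub u)).factorization p ≤ 1 := by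
    have h : Nat.card (Subgroup.centralizer ({u} : Set G)) =
        p ^ n * Nat.card ((Subgroup.centralizer ({u} : Set G)) ⧸ uSub u) := by
      rw [← (uSub u).card_mul_index, card_uSub, hu, Subgroup.index_eq_card]
    rw [h, Nat.factorization_mul (pow_ne_zero _ hM.1.ne_zero) Nat.card_pos.ne', Finsupp.add_apply,
      hM.1.factorization_pow, Finsupp.single_eq_same] at hC hn
    omega
  obtain ⟨D, hD⟩ := exists_isDefectGroup hM hpre
  have hd1 : blockDefect p (CentralQuot.pre f hf b) ≤ 1 :=
    (blockDefect_le_and_degree hM hpre).1.trans hfac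
  have hcyc : IsCyclic D := by
    rcases Nat.le_one_iff_eq_zero_or_eq_one.mp hd1 with h | h
    · have h' := IsDefectGroup.card_eq hM hpre hD
      rw [h, pow_zero] at h'
      rw [Subgroup.card_eq_one.mp h']
      infer_instance
    · exact isCyclic_of_prime_card ((IsDefectGroup.card_eq hM hpre hD).trans (by rw [h, pow_one]))
  obtain ⟨e, t, φ, hG⟩ := exists_gram hM hpre hD hcyc
  refine (card_nonzero_le_pow_of_gram hM hu hB hb hG).trans (Nat.pow_le_pow_right hM.1.pos ?_)
  exact (blockDefect_le_and_degree hM hb.1).1.trans hC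

end CfsgLib.Blocks.RankTwo
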